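import Groth.Agent.GrpAct.Orbit
import Groth.Agent.GrpAct.OrbitSmooth
import Groth.Agent.SubGen.AlgClosed
import Groth.Agent.GrpField.Irreducible

/-!
Irreducible closed subsets of `X × Y` stable under a group with finitely many orbits on `X`.
-/

set_option autoImplicit false
set_option backward.isDefEq.respectTransparency false
set_option linter.style.haveILetI false
set_option linter.unusedSectionVars false

universe u

open CategoryTheory CategoryTheory.Limits MonoidalCategory CartesianMonoidalCategory MonObj AlgebraicGeometry TopologicalSpace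
open Groth.Agent.SubGen (rpt exists_rpt map_rpt rpt_mem_closedPoints)
open Groth.Agent.GrpAct (orbit actIso)
open Groth.Agent

noncomputable section

namespace Groth.Agent.AgfStableProd

variable {k : Type u} [Field k] [IsAlgClosed k]

theorem subset_of_closedPoints {Z : Type*} [TopologicalSpace Z] [JacobsonSpace Z] {A C : Set Z} (hA : IsClosed A)
    (hC : IsClosed C) (h : A ∩ closedPoints Z ⊆ C) : A ⊆ C := by
  rw [← hA.closure_eq, ← JacobsonSpace.closure_inter_closedPoints_eq_closure hA.isLocallyClosed]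
  exact closure_minimal h hC

variable {B X Y : Over (Spec (CommRingCat.of k))} [GrpObj B] [LocallyOfFiniteType B.hom] [IrreducibleSpace B.left]
  [LocallyOfFiniteType X.hom] [LocallyOfFiniteType Y.hom] (a : AlgGrp.Action B X)

omit [IsAlgClosed k] [LocallyOfFiniteType B.hom] [IrreducibleSpace B.left] [LocallyOfFiniteType X.hom]
  [LocallyOfFiniteType Y.hom] in
theorem rpt_comp_actIso (b : 𝟙_ (Over (Spec (CommRingCat.of k))) ⟶ B)
    (x : 𝟙_ (Over (Spec (CommRingCat.of k))) ⟶ X) :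
    x ≫ (actIso a b).hom = lift b x ≫ a.act := by
  simp [actIso, GrpAct.comp_smul, toUnit_unique (toUnit (𝟙_ _)) (𝟙 _)]

theorem stable_closure_orbit (b : 𝟙_ (Over (Spec (CommRingCat.of k))) ⟶ B)
    (x : 𝟙_ (Over (Spec (CommRingCat.of k))) ⟶ X) :
    ⇑(actIso a b).hom.left '' closure (orbit a x) ⊆ closure (orbit a x) := by
  refine (image_closure_subset_closure_image (actIso a b).hom.left.continuous).trans (closure_mono ?_)
  rintro _ ⟨_, ⟨g, rfl⟩, rfl⟩
  exact ⟨(GrpAct.ltrIso b).hom.left g, congrArg (fun f => f.left g) (GrpAct.ltrIso_orbitMap a b x)⟩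

theorem exists_prod (hfin : Set.Finite {S : Set ↥X.left | ∃ x : 𝟙_ (Over (Spec (CommRingCat.of k))) ⟶ X,
      S = Set.range ⇑(a.orbitMap x).left.base})
    (Z : Set ↥(X ⊗ Y).left) (hZc : IsClosed Z) (hZi : IsIrreducible Z)
    (hZs : ∀ b : 𝟙_ (Over (Spec (CommRingCat.of k))) ⟶ B,
      ⇑(CartesianMonoidalCategory.lift (CartesianMonoidalCategory.toUnit (X ⊗ Y) ≫ b) (𝟙 (X ⊗ Y)) ≫
          (α_ B X Y).inv ≫ (a.act ▷ Y)).left.base '' Z ⊆ Z) :
    ∃ (V : Set ↥X.left) (W : Set ↥Y.left), IsClosed V ∧ IsIrreducible V ∧ IsClosed W ∧ IsIrreducible W ∧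
      (∀ b : 𝟙_ (Over (Spec (CommRingCat.of k))) ⟶ B,
        ⇑(CartesianMonoidalCategory.lift (CartesianMonoidalCategory.toUnit X ≫ b) (𝟙 X) ≫ a.act).left.base '' V ⊆ V) ∧
      Z = ⇑(CartesianMonoidalCategory.fst X Y).left.base ⁻¹' V ∩ ⇑(CartesianMonoidalCategory.snd X Y).left.base ⁻¹' W := by
  classical
  haveI : LocallyOfFiniteType (X ⊗ Y).hom :=
    inferInstanceAs (LocallyOfFiniteType (pullback.fst X.hom Y.hom ≫ X.hom))
  haveI : JacobsonSpace X.left := LocallyOfFiniteType.jacobsonSpace X.hom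
  haveI : JacobsonSpace Y.left := LocallyOfFiniteType.jacobsonSpace Y.hom
  haveI : JacobsonSpace B.left := LocallyOfFiniteType.jacobsonSpace B.hom
  haveI : JacobsonSpace ↥(X ⊗ Y).left := LocallyOfFiniteType.jacobsonSpace (X ⊗ Y).hom
  -- moving a rational point of `Z`
  have hmove : ∀ (b : 𝟙_ (Over (Spec (CommRingCat.of k))) ⟶ B) (x : 𝟙_ (Over (Spec (CommRingCat.of k))) ⟶ X)
      (y : 𝟙_ (Over (Spec (CommRingCat.of k))) ⟶ Y),
      rpt (lift x y) ∈ Z → rpt (lift (lift b x ≫ a.act) y) ∈ Z := by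
    intro b x y h
    refine hZs b ⟨_, h, ?_⟩
    rw [map_rpt]
    congr 1
    have e : lift x y ≫ lift (toUnit (X ⊗ Y) ≫ b) (𝟙 (X ⊗ Y)) ≫ (α_ B X Y).inv = lift (lift b x) y := by
      rw [comp_lift_assoc, comp_toUnit_assoc, toUnit_unique (toUnit (𝟙_ _)) (𝟙 _), Category.id_comp,
        Category.comp_id, lift_lift_associator_inv]
    rw [reassoc_of% e, lift_whiskerRight]
  have hrep : ∀ S : {S // S ∈ hfin.toFinset}, ∃ x, S.1 = orbit a x := fun S => hfin.mem_toFinset.1 S.2
  choose c hc using hrep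
  let W : {S // S ∈ hfin.toFinset} → Set Y.left :=
    fun S => (lift (toUnit Y ≫ c S) (𝟙 Y)).left ⁻¹' Z
  let T : {S // S ∈ hfin.toFinset} → Set ↥(X ⊗ Y).left :=
    fun S => (fst X Y).left ⁻¹' closure (orbit a (c S)) ∩ (snd X Y).left ⁻¹' W S
  have hWc : ∀ S, IsClosed (W S) := fun S => hZc.preimage (lift (toUnit Y ≫ c S) (𝟙 Y)).left.continuous
  have hTc : ∀ S, IsClosed (T S) := fun S =>
    (isClosed_closure.preimage (fst X Y).left.continuous).inter ((hWc S).preimage (snd X Y).left.continuous)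
  have hWmem : ∀ S (y : 𝟙_ (Over (Spec (CommRingCat.of k))) ⟶ Y), rpt y ∈ W S ↔ rpt (lift (c S) y) ∈ Z := by
    intro S y
    show (lift (toUnit Y ≫ c S) (𝟙 Y)).left (rpt y) ∈ Z ↔ _
    rw [map_rpt, comp_lift, comp_toUnit_assoc, toUnit_unique (toUnit (𝟙_ _)) (𝟙 _), Category.id_comp,
      Category.comp_id]
  have hTZ : ∀ S, T S ⊆ Z := fun S => by
    refine subset_of_closedPoints (hTc S) hZc fun p ⟨⟨hp₁, hp₂⟩, hpc⟩ => ?_
    obtain ⟨q, rfl⟩ := exists_rpt hpc
    obtain ⟨x, y, rfl⟩ : ∃ x y, q = lift x y := ⟨q ≫ fst X Y, q ≫ snd X Y, by simp⟩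
    rw [Set.mem_preimage, map_rpt, lift_fst] at hp₁
    rw [Set.mem_preimage, map_rpt, lift_snd, hWmem] at hp₂
    have hcl : closure (orbit a (c S)) ⊆ (lift (𝟙 X) (toUnit X ≫ y)).left ⁻¹' Z := by
      refine closure_minimal ?_ (hZc.preimage (lift (𝟙 X) (toUnit X ≫ y)).left.continuous)
      rintro _ ⟨g, rfl⟩
      refine Set.mem_preimage.1 ((?_ : (Set.univ : Set B.left) ⊆
        (a.orbitMap (c S) ≫ lift (𝟙 X) (toUnit X ≫ y)).left ⁻¹' Z) (Set.mem_univ g))
      refine subset_of_closedPoints isClosed_univ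
        (hZc.preimage (a.orbitMap (c S) ≫ lift (𝟙 X) (toUnit X ≫ y)).left.continuous) fun g hg => ?_
      obtain ⟨b, rfl⟩ := exists_rpt hg.2
      rw [Set.mem_preimage, map_rpt, ← Category.assoc, comp_lift, Category.comp_id, comp_toUnit_assoc,
        toUnit_unique (toUnit (𝟙_ _)) (𝟙 _), Category.id_comp, GrpAct.comp_orbitMap,
        toUnit_unique (toUnit (𝟙_ _)) (𝟙 _), Category.id_comp]
      exact hmove b _ _ hp₂
    have := hcl hp₁
    rwa [Set.mem_preimage, map_rpt, comp_lift, Category.comp_id, comp_toUnit_assoc,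
      toUnit_unique (toUnit (𝟙_ _)) (𝟙 _), Category.id_comp] at this
  have hcov : Z ⊆ ⋃ S, T S := by
    refine subset_of_closedPoints hZc (isClosed_iUnion_of_finite hTc) fun p ⟨hp, hpc⟩ => ?_
    obtain ⟨q, rfl⟩ := exists_rpt hpc
    obtain ⟨x, y, rfl⟩ : ∃ x y, q = lift x y := ⟨q ≫ fst X Y, q ≫ snd X Y, by simp⟩
    let S : {S // S ∈ hfin.toFinset} := ⟨orbit a x, hfin.mem_toFinset.2 ⟨x, rfl⟩⟩
    have e : orbit a x = orbit a (c S) := hc S
    have hx : rpt x ∈ orbit a x := ⟨rpt (1 : 𝟙_ _ ⟶ B), by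
      rw [map_rpt, GrpAct.comp_orbitMap, toUnit_unique (toUnit (𝟙_ _)) (𝟙 _), Category.id_comp, GrpAct.one_smul']⟩
    refine Set.mem_iUnion.2 ⟨S, ?_, ?_⟩
    · rw [Set.mem_preimage, map_rpt, lift_fst]
      exact subset_closure (e ▸ hx)
    · rw [Set.mem_preimage, map_rpt, lift_snd, hWmem]
      have hcS : rpt (c S) ∈ orbit a x := by
        rw [e]
        exact ⟨rpt (1 : 𝟙_ _ ⟶ B), by
          rw [map_rpt, GrpAct.comp_orbitMap, toUnit_unique (toUnit (𝟙_ _)) (𝟙 _), Category.id_comp, GrpAct.one_smul']⟩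
      obtain ⟨g, hg⟩ := hcS
      obtain ⟨g', hg', hgc⟩ := nonempty_inter_closedPoints (Z := (a.orbitMap x).left ⁻¹' {rpt (c S)}) ⟨g, hg⟩
        ((mem_closedPoints_iff.1 (rpt_mem_closedPoints (c S))).preimage
          (a.orbitMap x).left.continuous).isLocallyClosed
      obtain ⟨b, rfl⟩ := exists_rpt hgc
      have e2 : c S = lift b x ≫ a.act := SubGen.rpt_injective (by
        rw [← hg', map_rpt, GrpAct.comp_orbitMap, toUnit_unique (toUnit (𝟙_ _)) (𝟙 _), Category.id_comp])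
      rw [e2]
      exact hmove b x y hp
  obtain ⟨_, hS, hZT⟩ := isIrreducible_iff_sUnion_isClosed.1 hZi (Finset.univ.image T)
    (fun _ h => by obtain ⟨S, -, rfl⟩ := Finset.mem_image.1 h; exact hTc S)
    (by simpa [Set.sUnion_range] using hcov)
  obtain ⟨S, -, rfl⟩ := Finset.mem_image.1 hS
  have hZeq : Z = T S := hZT.antisymm (hTZ S)
  refine ⟨closure (orbit a (c S)), W S, isClosed_closure,
    (Set.image_univ ▸ (IrreducibleSpace.isIrreducible_univ B.left).image _
      (a.orbitMap (c S)).left.continuous.continuousOn).closure,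
    hWc S, ?_, fun b => stable_closure_orbit a b (c S), hZeq⟩
  have hW : W S = closure ((snd X Y).left '' Z) := by
    refine subset_antisymm (subset_of_closedPoints (hWc S) isClosed_closure fun p ⟨hp, hpc⟩ => ?_)
      (closure_minimal (by rw [hZeq]; rintro _ ⟨z, hz, rfl⟩; exact hz.2) (hWc S))
    obtain ⟨y, rfl⟩ := exists_rpt hpc
    refine subset_closure ⟨rpt (lift (c S) y), (hWmem S y).1 hp, ?_⟩
    rw [map_rpt, lift_snd]
  rw [hW]
  exact (hZi.image _ (snd X Y).left.continuous.continuousOn).closure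

end Groth.Agent.AgfStableProd
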